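import Cfsg.Agent.Lib.GraphFieldPlus.Frame
import Cfsg.Agent.Lib.AutPSL.Split
import Cfsg.Agent.Lib.PGOQuot.Plus

/-!
The centraliser of the standard involutory graph-field automorphism in the inner-diagonal group of the split form.
-/

set_option autoImplicit false
set_option linter.style.haveILetI false
set_option linter.unusedSectionVars false
set_option maxHeartbeats 400000

namespace CfsgLib.GraphFieldPlus

open Matrix QuadraticMap Cfsg
open CfsgLib.OrthCrit (plusForm minusForm parity)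
open CfsgLib.PGOQuot (simG simAut scal isoToSim)
open CfsgLib.PGOQuot.Minus (Idx Aniso)
open CfsgLib.Descent (invAut fieldAut simMap liftVec mapGL)
open CfsgLib.FieldAutPlus (par K0 mem_K0)

variable {F : Type*} [Field F] {k : ℕ}

/-- The standard element. -/
noncomputable def std (k : ℕ) (σ : ↥(invAut (plusForm (k + 1) F))) :
    MulAut (POmega F ⇑(plusForm (k + 1) F)) :=
  simAut (lastRefl k F) * fieldAut σ

theorem map_scal {F₀ : Type*} [Field F₀] (f : F₀ →+* F) {ι : Type} [Fintype ι] [DecidableEq ι] (c : F₀ˣ) :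
    Matrix.GeneralLinearGroup.map f (scal c : GL ι F₀) = scal (Units.map f.toMonoidHom c) := by
  refine Units.ext (Matrix.ext fun i j => ?_)
  show f (Matrix.scalar ι (c : F₀) i j) = Matrix.scalar ι (f c) i j
  by_cases hij : i = j
  · subst hij; simp
  · simp [hij]

theorem exists_scal_base {F₀ : Type*} [Field F₀] (f : F₀ →+* F) {ι : Type} [Fintype ι] [DecidableEq ι] [Nonempty ι]
    {A : GL ι F₀} {u : Fˣ} (h : Matrix.GeneralLinearGroup.map f A = scal u) :
    ∃ c : F₀ˣ, A = scal c := by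
  obtain ⟨i₀⟩ := ‹Nonempty ι›
  have h3 : ∀ i j, f ((A : Matrix ι ι F₀) i j) = Matrix.scalar ι (u : F) i j := fun i j => by
    have h4 : ((Matrix.GeneralLinearGroup.map f A : GL ι F) : Matrix ι ι F) i j =
        ((scal u : GL ι F) : Matrix ι ι F) i j := by rw [h]
    exact h4
  have h5 : (A : Matrix ι ι F₀) i₀ i₀ ≠ 0 := fun hz => u.ne_zero (by
    have := h3 i₀ i₀
    rw [hz, map_zero] at this
    simpa using this.symm)
  refine ⟨Units.mk0 _ h5, Units.ext (Matrix.ext fun i j => f.injective ?_)⟩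
  rw [h3]
  show _ = f (Matrix.scalar ι ((A : Matrix ι ι F₀) i₀ i₀) i j)
  by_cases hij : i = j
  · subst hij; simp [h3]
  · simp [hij]

theorem exists_base_of_fixed {F₀ : Type*} [Field F₀] (f : F₀ →+* F) {σ : F ≃+* F}
    (hf' : ∀ x, σ x = x → ∃ a, f a = x) {ι : Type} [Fintype ι] [DecidableEq ι]
    {M : GL ι F} (h : mapGL σ M = M) : ∃ A : GL ι F₀, Matrix.GeneralLinearGroup.map f A = M := by
  have h1 : ∀ i j, σ ((M : Matrix ι ι F) i j) = (M : Matrix ι ι F) i j := fun i j => by
    have h2 : ((mapGL σ M : GL ι F) : Matrix ι ι F) i j = (M : Matrix ι ι F) i j := by rw [h]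
    exact h2
  choose a ha using fun i j => hf' _ (h1 i j)
  have hmap : (Matrix.of a).map f = (M : Matrix ι ι F) := Matrix.ext fun i j => by simp [ha]
  have hdet : IsUnit (Matrix.of a).det := by
    refine isUnit_iff_ne_zero.mpr fun hz => M.det.ne_zero ?_
    show (M : Matrix ι ι F).det = 0
    rw [← hmap, show (Matrix.of a).map f = f.mapMatrix (Matrix.of a) from rfl, ← RingHom.map_det, hz, map_zero]
  exact ⟨(Matrix.of a).nonsingInvUnit hdet, Units.ext hmap⟩

theorem comm_aux {X : Type*} [Group X] {a b c φ : X} (e1 : a * c = b * a) (e3 : φ * b = c * φ) :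
    b * (a * φ) = a * φ * b := by
  rw [← mul_assoc, ← e1, mul_assoc, ← e3, ← mul_assoc]

variable [Fintype F] {F₀ : Type*} [Field F₀] (f : F₀ →+* F)
variable {σ : ↥(invAut (plusForm (k + 1) F))} {θ θ' : F} (h : θ ≠ θ') {a₀ b₀ : F₀}
  (ha : f a₀ = θ + θ') (hb : f b₀ = θ * θ')

include h ha hb in
/-- The similarities centralising the standard element. -/
theorem centralizer_iff (hk : 3 ≤ k + 1) (h1 : (σ : F ≃+* F) θ = θ') (h2 : (σ : F ≃+* F) θ' = θ)
    (hf : ∀ a, (σ : F ≃+* F) (f a) = f a) (hf' : ∀ x, (σ : F ≃+* F) x = x → ∃ a, f a = x)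
    (g : ↥(simG (plusForm (k + 1) F))) :
    Commute (simAut g) (std k σ) ↔
      ∃ (e : Fˣ) (A : ↥(simG (minusForm k F₀ a₀ b₀))),
        g = ⟨scal e, CfsgLib.PGOQuot.scal_mem_simG e⟩ * emb f h ha hb A := by
  haveI : Nonempty (Idx k) := ⟨Sum.inr 0⟩
  constructor
  · intro hg
    have e1 : simAut (g * lastRefl k F) = simAut (lastRefl k F * simMap σ g) := by
      have := hg.eq
      rw [std, ← mul_assoc, ← map_mul, mul_assoc (simAut (lastRefl k F)), CfsgLib.Descent.fieldAut_simAut,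
        ← mul_assoc, ← map_mul] at this
      exact mul_right_cancel this
    obtain ⟨c, hc⟩ := CfsgLib.FieldAutPlus.simAut_ker hk ((g * lastRefl k F)⁻¹ * (lastRefl k F * simMap σ g))
      (by rw [map_mul, map_inv, e1, inv_mul_cancel])
    have e2 : (lastRefl k F : GL (Fin (k + 1) ⊕ Fin (k + 1)) F) * mapGL (σ : F ≃+* F) (g : GL (Fin (k + 1) ⊕ Fin (k + 1)) F) =
        (g : GL (Fin (k + 1) ⊕ Fin (k + 1)) F) * (lastRefl k F : GL (Fin (k + 1) ⊕ Fin (k + 1)) F) * scal c := by
      rw [← hc]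
      rw [Subgroup.coe_mul, Subgroup.coe_inv, Subgroup.coe_mul, Subgroup.coe_mul, mul_inv_cancel_left]
      rfl
    set M := tr (frameEquiv k h).symm (g : GL (Fin (k + 1) ⊕ Fin (k + 1)) F) with hM
    have hgM : tr (frameEquiv k h) M = (g : GL (Fin (k + 1) ⊕ Fin (k + 1)) F) := tr_tr_symm _ _
    rw [← hgM, refl_map_tr _ h h1 h2, ← CfsgLib.PGOQuot.scal_comm, ← mul_assoc, mul_left_inj,
      ← tr_scal (frameEquiv k h) c, ← map_mul] at e2
    have e3 := tr_injective _ e2
    rw [CfsgLib.Descent.scal_eq] at e3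
    obtain ⟨e, A, hA⟩ := CfsgLib.Descent.exists_scalar_base f hf' e3
    obtain ⟨c', hc'⟩ := g.2
    have hMsim : ∀ v, minusForm k F (θ + θ') (θ * θ') ((M : Matrix (Idx k) (Idx k) F) *ᵥ v) =
        (c' : F) * minusForm k F (θ + θ') (θ * θ') v := fun v => by
      rw [← frame_form h, ← frame_form h, ← tr_mulVec, hgM]
      exact hc' _
    rw [hA] at hMsim
    obtain ⟨c₀, -, hc₀⟩ := CfsgLib.Descent.similar_of_map f (minusForm k F (θ + θ') (θ * θ'))
      ⇑(minusForm k F₀ a₀ b₀) (minusForm_liftVec f ha hb)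
      ⟨Pi.single (Sum.inr 0) 1, by simp [Cfsg.quadFormMinus]⟩ A e c' hMsim
    refine ⟨e, ⟨A, c₀, hc₀⟩, Subtype.ext ?_⟩
    show (g : GL (Fin (k + 1) ⊕ Fin (k + 1)) F) = scal e * tr (frameEquiv k h) (Matrix.GeneralLinearGroup.map f A)
    rw [← hgM, hA, ← CfsgLib.Descent.scal_eq, map_mul, tr_scal]
  · rintro ⟨e, A, rfl⟩
    have hfix : lastRefl k F * simMap σ (emb f h ha hb A) = emb f h ha hb A * lastRefl k F := by
      refine Subtype.ext ?_
      show (lastRefl k F : GL (Fin (k + 1) ⊕ Fin (k + 1)) F) * mapGL (σ : F ≃+* F)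
        (tr (frameEquiv k h) (Matrix.GeneralLinearGroup.map f (A : GL (Idx k) F₀))) = _
      rw [refl_map_tr _ h h1 h2, show mapGL (σ : F ≃+* F) (Matrix.GeneralLinearGroup.map f (A : GL (Idx k) F₀)) =
        Matrix.GeneralLinearGroup.map f (A : GL (Idx k) F₀) from Units.ext (Matrix.ext fun i j => hf _)]
      rfl
    rw [map_mul, CfsgLib.Descent.simAut_scal, one_mul]
    show _ = _
    have e1 : simAut (lastRefl k F) * simAut (simMap σ (emb f h ha hb A)) =
        simAut (emb f h ha hb A) * simAut (lastRefl k F) :=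
      (map_mul (simAut (Q := plusForm (k + 1) F)) _ _).symm.trans
        ((congrArg (simAut (Q := plusForm (k + 1) F)) hfix).trans (map_mul (simAut (Q := plusForm (k + 1) F)) _ _))
    exact comm_aux e1 (CfsgLib.Descent.fieldAut_simAut σ (emb f h ha hb A))

variable [Fintype F₀]

include h ha hb in
theorem emb_ker (hk : 3 ≤ k) (hab : Aniso a₀ b₀) (A : ↥(simG (minusForm k F₀ a₀ b₀))) :
    simAut (emb f h ha hb A) = 1 ↔ simAut A = 1 := by
  haveI : Nonempty (Idx k) := ⟨Sum.inr 0⟩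
  constructor
  · intro hA
    obtain ⟨u, hu⟩ := CfsgLib.FieldAutPlus.simAut_ker (by omega) _ hA
    rw [emb_coe, ← tr_scal (frameEquiv k h) u] at hu
    obtain ⟨c, hc⟩ := exists_scal_base f (tr_injective _ hu)
    rw [show A = ⟨scal c, CfsgLib.PGOQuot.scal_mem_simG c⟩ from Subtype.ext hc, CfsgLib.Descent.simAut_scal]
  · intro hA
    obtain ⟨c, hc⟩ := CfsgLib.MinusField.ker_simAut hk hab A hA
    rw [show emb f h ha hb A = ⟨scal (Units.map f.toMonoidHom c), CfsgLib.PGOQuot.scal_mem_simG _⟩ from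
      Subtype.ext (by rw [emb_coe, hc, map_scal, tr_scal]), CfsgLib.Descent.simAut_scal]

/-- In characteristic two the parity of a scalar times an isometry is the parity of the isometry. -/
theorem par_isoToSim_iff {m : ℕ} (hm : 3 ≤ m) (o : ↥(isometryGroup F ⇑(plusForm m F))) :
    par (isoToSim o) = 1 ↔ parity o = 0 := by
  rw [← CfsgLib.FieldAutPlus.preserves_iff_par]
  have hnd := CfsgLib.OrthCrit.ndPolar_plusForm (F := F) m
  have hι : Fintype.card (Fin m ⊕ Fin m) = 2 * m := by simp; omega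
  refine (CfsgLib.PGOQuot.preserves_iff (Q := plusForm m F) hnd hι (g := (o : GL (Fin m ⊕ Fin m) F)) (c := 1)
    (fun v => by rw [one_mul]; exact o.2 v v) CfsgLib.OrthGeom.isMaxSing_halfSpace).trans ?_
  exact CfsgLib.OrthCrit.even_sub_finrank_inf_map hnd
    (CfsgLib.MinusField.regular_of_five_le (by rw [hι]; omega)) CfsgLib.OrthCrit.halfSpace_singular
    CfsgLib.OrthCrit.finrank_halfSpace hι o

/-- The isometries of the minus form over the fixed field. -/
noncomputable def baseIso : ↥(isometryGroup F₀ ⇑(minusForm k F₀ a₀ b₀)) →*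
    ↥(isometryGroup F ⇑(plusForm (k + 1) F)) :=
  (((tr (frameEquiv k h)).comp
    ((Matrix.GeneralLinearGroup.map f).comp (isometryGroup F₀ ⇑(minusForm k F₀ a₀ b₀)).subtype))).codRestrict _
      fun o => fun w _ => by
        obtain ⟨v, rfl⟩ := (frameEquiv k h).surjective w
        show plusForm (k + 1) F
          (((tr (frameEquiv k h) (Matrix.GeneralLinearGroup.map f (o : GL (Idx k) F₀)) :
            GL (Fin (k + 1) ⊕ Fin (k + 1)) F) : Matrix _ _ F) *ᵥ frameEquiv k h v) = plusForm (k + 1) F _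
        rw [tr_mulVec, frame_form, frame_form]
        exact (CfsgLib.MinusField.map_mem_iso (QK := minusForm k F (θ + θ') (θ * θ')) f (minusForm_liftVec f ha hb) o) v v

theorem baseIso_coe (o : ↥(isometryGroup F₀ ⇑(minusForm k F₀ a₀ b₀))) :
    ((baseIso f h ha hb o : ↥(isometryGroup F ⇑(plusForm (k + 1) F))) : GL (Fin (k + 1) ⊕ Fin (k + 1)) F) =
      tr (frameEquiv k h) (Matrix.GeneralLinearGroup.map f (o : GL (Idx k) F₀)) := rfl

include h ha hb in
theorem emb_isoToSim (o : ↥(isometryGroup F₀ ⇑(minusForm k F₀ a₀ b₀))) :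
    emb f h ha hb (isoToSim o) = isoToSim (baseIso f h ha hb o) := Subtype.ext rfl

include h ha hb in
theorem parity_baseIso (o : ↥(isometryGroup F₀ ⇑(minusForm k F₀ a₀ b₀))) :
    parity (baseIso f h ha hb o) = parity o := by
  rw [← CfsgLib.MinusField.parity_mapIso (QK := minusForm k F (θ + θ') (θ * θ')) f (minusForm_liftVec f ha hb) o]
  simp only [parity, CfsgLib.Orth.moved]
  erw [CfsgLib.MinusField.subOne_eq, CfsgLib.MinusField.subOne_eq]
  rw [baseIso_coe, finrank_tr_sub_one]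
  rfl

include h ha hb in
/-- Parity zero in the split form means proper over the fixed field. -/
theorem par_emb_iff (hk : 3 ≤ k) (hab : Aniso a₀ b₀) (A : ↥(simG (minusForm k F₀ a₀ b₀))) :
    par (emb f h ha hb A) = 1 ↔ A ∈ CfsgLib.MinusField.properSub k a₀ b₀ := by
  rcases CfsgLib.MinusField.odd_or_two F₀ with hodd | h2
  · have h20 := CfsgLib.PGOQuot.Minus.two_ne_zero' hodd
    have hoddF : Odd (Fintype.card F) := by
      rw [← Nat.card_eq_fintype_card, ← CfsgLib.Classical.Quad.two_ne_zero_iff_odd]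
      rwa [← map_ofNat f, map_ne_zero]
    rw [CfsgLib.MinusField.mem_proper_odd hodd hk hab, ← CfsgLib.FieldAutPlus.preserves_iff_par,
      CfsgLib.PGOQuot.Plus.preserves_iff_eps hoddF (by omega)]
    have hμ : (CfsgLib.PGOQuot.Plus.ctx hoddF (show 3 ≤ k + 1 by omega)).mu (emb f h ha hb A) =
        Units.map f.toMonoidHom ((CfsgLib.PGOQuot.Minus.ctx hodd hk hab).mu A) := by
      refine CfsgLib.PGOQuot.Ctx.mu_eq _ fun w => ?_
      obtain ⟨v, rfl⟩ := (frameEquiv k h).surjective w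
      rw [emb_coe, tr_mulVec, frame_form, frame_form]
      exact CfsgLib.Descent.similar_map f (minusForm k F (θ + θ') (θ * θ')) _ (minusForm_liftVec f ha hb) _ _
        ((CfsgLib.PGOQuot.Minus.ctx hodd hk hab).mu_spec A) v
    have he : (CfsgLib.PGOQuot.Plus.ctx hoddF (show 3 ≤ k + 1 by omega)).eps (emb f h ha hb A) =
        Units.map f.toMonoidHom ((CfsgLib.PGOQuot.Minus.ctx hodd hk hab).eps A) := by
      rw [CfsgLib.PGOQuot.Ctx.eps_apply, CfsgLib.PGOQuot.Ctx.eps_apply, hμ, map_mul, map_inv, map_pow]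
      congr 1
      · refine Units.ext ?_
        show ((emb f h ha hb A : ↥(simG (plusForm (k + 1) F))) : GL (Fin (k + 1) ⊕ Fin (k + 1)) F).1.det = _
        rw [emb_coe, det_tr]
        exact (RingHom.map_det f _).symm
    rw [he]
    exact map_eq_one_iff _ (Units.map_injective (f := f.toMonoidHom) f.injective)
  · obtain ⟨c, o, rfl⟩ := CfsgLib.MinusField.exists_decomp_two A
    rw [CfsgLib.MinusField.mem_proper_two hk hab, map_mul, map_mul, emb_isoToSim,
      show emb f h ha hb ⟨scal c, CfsgLib.PGOQuot.scal_mem_simG c⟩ =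
        ⟨scal (Units.map f.toMonoidHom c), CfsgLib.PGOQuot.scal_mem_simG _⟩ from
        Subtype.ext (by rw [emb_coe, map_scal, tr_scal]),
      CfsgLib.FieldAutPlus.par_scal, one_mul, par_isoToSim_iff (by omega), parity_baseIso]

/-- Images of a subgroup under two homomorphisms with equal kernels. -/
theorem map_equiv_of_ker {G M N : Type*} [Group G] [Group M] [Group N] (φ : G →* M) (ψ : G →* N)
    (K : Subgroup G) (hker : ∀ g, φ g = 1 ↔ ψ g = 1) : Nonempty (↥(K.map φ) ≃* ↥(K.map ψ)) := by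
  have h1 : (φ.comp K.subtype).range = K.map φ := by
    rw [MonoidHom.range_comp, Subgroup.range_subtype]
  have h2 : (ψ.comp K.subtype).range = K.map ψ := by
    rw [MonoidHom.range_comp, Subgroup.range_subtype]
  have h3 : (φ.comp K.subtype).ker = (ψ.comp K.subtype).ker := by
    ext x
    exact hker x
  exact ⟨(MulEquiv.subgroupCongr h1).symm.trans ((QuotientGroup.quotientKerEquivRange _).symm.trans
    ((QuotientGroup.quotientMulEquivOfEq h3).trans ((QuotientGroup.quotientKerEquivRange _).trans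
      (MulEquiv.subgroupCongr h2))))⟩

include h ha hb in
theorem centralizer_eq_map (hk : 3 ≤ k) (hab : Aniso a₀ b₀)
    (h1 : (σ : F ≃+* F) θ = θ') (h2 : (σ : F ≃+* F) θ' = θ)
    (hf : ∀ a, (σ : F ≃+* F) (f a) = f a) (hf' : ∀ x, (σ : F ≃+* F) x = x → ∃ a, f a = x) :
    (K0 (k + 1) F).map (simAut (Q := plusForm (k + 1) F)) ⊓ Subgroup.centralizer {std k σ} =
      (CfsgLib.MinusField.properSub k a₀ b₀).map (simAut.comp (emb f h ha hb)) := by
  apply le_antisymm
  · rintro _ ⟨⟨g, hg, rfl⟩, hc⟩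
    obtain ⟨e, A, rfl⟩ := (centralizer_iff f h ha hb (by omega) h1 h2 hf hf' g).mp
      (Subgroup.mem_centralizer_singleton_iff.mp hc)
    have hp := mem_K0.mp hg
    rw [map_mul, CfsgLib.FieldAutPlus.par_scal, one_mul] at hp
    exact ⟨A, (par_emb_iff f h ha hb hk hab A).mp hp, by
      rw [map_mul, CfsgLib.Descent.simAut_scal, one_mul]; rfl⟩
  · rintro _ ⟨A, hA, rfl⟩
    refine ⟨⟨_, mem_K0.mpr ((par_emb_iff f h ha hb hk hab A).mpr hA), rfl⟩, ?_⟩
    exact Subgroup.mem_centralizer_singleton_iff.mpr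
      ((centralizer_iff f h ha hb (by omega) h1 h2 hf hf' _).mpr ⟨1, A, by
        rw [show (⟨scal (1 : Fˣ), CfsgLib.PGOQuot.scal_mem_simG 1⟩ : ↥(simG (plusForm (k + 1) F))) = 1 from
          Subtype.ext (map_one _), one_mul]⟩).eq

include h ha hb in
/-- **The centraliser.** -/
theorem centralizer_equiv (hk : 3 ≤ k) (hab : Aniso a₀ b₀)
    (h1 : (σ : F ≃+* F) θ = θ') (h2 : (σ : F ≃+* F) θ' = θ)
    (hf : ∀ a, (σ : F ≃+* F) (f a) = f a) (hf' : ∀ x, (σ : F ≃+* F) x = x → ∃ a, f a = x) :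
    Nonempty (↥((K0 (k + 1) F).map (simAut (Q := plusForm (k + 1) F)) ⊓ Subgroup.centralizer {std k σ}) ≃*
      ↥(CfsgLib.MinusField.innd k a₀ b₀)) := by
  obtain ⟨e⟩ := map_equiv_of_ker (simAut.comp (emb f h ha hb)) (simAut (Q := minusForm k F₀ a₀ b₀))
    (CfsgLib.MinusField.properSub k a₀ b₀) (emb_ker f h ha hb hk hab)
  exact ⟨(MulEquiv.subgroupCongr (centralizer_eq_map f h ha hb hk hab h1 h2 hf hf')).trans
    (e.trans (MulEquiv.subgroupCongr (CfsgLib.MinusField.inndiag_eq_map k a₀ b₀).symm))⟩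

end CfsgLib.GraphFieldPlus
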