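import Cfsg.Agent.Lib.GraphFieldPlus.Split

/-!
The count of inner classes in odd characteristic.
-/

set_option autoImplicit false
set_option linter.style.haveILetI false
set_option linter.unusedSectionVars false
set_option maxHeartbeats 400000

namespace CfsgLib.GraphFieldPlus

open Matrix QuadraticMap Cfsg
open CfsgLib.OrthCrit (plusForm minusForm)
open CfsgLib.OrthSpinor (theta detHom)
open CfsgLib.PGOQuot (simG simAut scal isoToSim sqSign outer Ctx)
open CfsgLib.PGOQuot.Minus (Idx Aniso)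
open CfsgLib.Descent (invAut fieldAut simMap liftVec mapGL)
open CfsgLib.FieldAutPlus (par K0 mem_K0)

theorem mem_of_mul_inv {G X : Type*} [Group G] [Group X] (φ : G →* X) (S : Subgroup X) {a b : G}
    (h₁ : φ (a * b⁻¹) ∈ S) (h₂ : φ b ∈ S) : φ a ∈ S := by
  have h := mul_mem h₁ h₂
  rwa [← map_mul, inv_mul_cancel_right] at h

theorem map_mul_inv_eq_one {G X : Type*} [Group G] [Group X] (φ : G →* X) {a b : G}
    (h : φ a = φ b) : φ (a * b⁻¹) = 1 := by
  rw [map_mul, map_inv, h, mul_inv_cancel]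

theorem mem_map_comp {G H X : Type*} [Group G] [Group H] [Group X] (φ : H →* X) (ψ : G →* H)
    {S : Subgroup G} {a : G} (h : a ∈ S) : φ (ψ a) ∈ S.map (φ.comp ψ) :=
  ⟨a, h, rfl⟩

variable {F : Type*} [Field F] [Fintype F] {k : ℕ}
variable {F₀ : Type*} [Field F₀] [Fintype F₀] (f : F₀ →+* F)
variable {σ : ↥(invAut (plusForm (k + 1) F))} {θ θ' : F} (h : θ ≠ θ') {a₀ b₀ : F₀}
  (ha : f a₀ = θ + θ') (hb : f b₀ = θ * θ')

include h ha hb in
theorem inner_of_square (hodd : Odd (Fintype.card F)) (hodd₀ : Odd (Fintype.card F₀))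
    (hcard : Fintype.card F = Fintype.card F₀ ^ 2) (hk : 3 ≤ k) (hab : Aniso a₀ b₀)
    {A : ↥(simG (minusForm k F₀ a₀ b₀))} (hA : A ∈ CfsgLib.MinusField.properSub k a₀ b₀)
    (hsq : (CfsgLib.PGOQuot.Minus.ctx hodd₀ hk hab).sq A = 1) :
    outer (emb f h ha hb A) = 1 := by
  obtain ⟨c, o, rfl⟩ := Ctx.exists_decomp _ hsq
  rw [CfsgLib.MinusField.mem_proper_odd hodd₀ hk hab, map_mul, Ctx.eps_scalSim, Ctx.eps_isoToSim, one_mul] at hA
  have hc : emb f h ha hb (Ctx.scalSim (Q := minusForm k F₀ a₀ b₀) c) =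
      Ctx.scalSim (Q := plusForm (k + 1) F) (Units.map f.toMonoidHom c) :=
    Subtype.ext (by rw [emb_coe]; show tr _ (Matrix.GeneralLinearGroup.map f (scal c)) = scal _; rw [map_scal, tr_scal])
  rw [map_mul, map_mul, hc, emb_isoToSim, (CfsgLib.PGOQuot.Plus.ctx hodd (show 3 ≤ k + 1 by omega)).outer_scal,
    one_mul]
  refine (CfsgLib.PGOQuot.Plus.ctx hodd (show 3 ≤ k + 1 by omega)).outer_omega ?_
    (theta_baseIso f h ha hb (CfsgLib.PGOQuot.Plus.two_ne_zero' hodd) hcard hab hA)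
  refine Units.ext ?_
  rw [CfsgLib.OrthSpinor.detHom_coe, baseIso_coe, det_tr]
  show ((o : GL (Idx k) F₀).1.map f).det = _
  rw [← RingHom.mapMatrix_apply, ← RingHom.map_det, ← CfsgLib.OrthSpinor.detHom_coe, hA]
  simp

include h ha hb in
/-- A proper similarity over the fixed field with non-square multiplier, seen in the extension. -/
theorem exists_witness (hodd : Odd (Fintype.card F)) (hodd₀ : Odd (Fintype.card F₀))
    (hcard : Fintype.card F = Fintype.card F₀ ^ 2) (hk : 3 ≤ k) (hab : Aniso a₀ b₀)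
    (hσ : orderOf (σ : F ≃+* F) = 2) (h1 : (σ : F ≃+* F) θ = θ') (h2 : (σ : F ≃+* F) θ' = θ)
    (hf : ∀ a, (σ : F ≃+* F) (f a) = f a) (hf' : ∀ x, (σ : F ≃+* F) x = x → ∃ a, f a = x) :
    ∃ (A : ↥(simG (minusForm k F₀ a₀ b₀))) (o : ↥(isometryGroup F ⇑(plusForm (k + 1) F))) (c : Fˣ) (s : Fˣ),
      A ∈ CfsgLib.MinusField.properSub k a₀ b₀ ∧ (CfsgLib.PGOQuot.Minus.ctx hodd₀ hk hab).sq A = -1 ∧
      emb f h ha hb A = Ctx.scalSim c * isoToSim o ∧ detHom o = 1 ∧
      theta (Q := plusForm (k + 1) F) 1 o = - sqSign s ^ (k + 1) ∧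
      ∃ ν : F₀, ν ≠ 0 ∧ ¬ IsSquare ν ∧ (s : F) * s = f ν := by
  have h20 := CfsgLib.PGOQuot.Minus.two_ne_zero' hodd₀
  have h2F := CfsgLib.PGOQuot.Plus.two_ne_zero' hodd
  obtain ⟨ν, hν, hns⟩ := CfsgLib.OrthSpinor.exists_nonsquare' (F := F₀) h20
  obtain ⟨s₀, hs₀⟩ := isSquare_base f h2F hcard hν
  have hfν : f ν ≠ 0 := by simpa using hν
  have hs0 : s₀ ≠ 0 := fun h => hfν (by rw [hs₀, h, mul_zero])
  obtain ⟨W₀, hW₀⟩ := CfsgLib.AutPSL.exists_norm_eq (σ : F ≃+* F) hσ (hf ν)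
  rw [Finset.prod_range_succ, Finset.prod_range_succ, Finset.prod_range_zero, one_mul, pow_zero, pow_one,
    RingAut.one_apply] at hW₀
  have hW0 : W₀ ≠ 0 := fun h => hfν (by rw [← hW₀, h, zero_mul])
  set s : Fˣ := Units.mk0 s₀ hs0 with hs
  set W : Fˣ := Units.mk0 W₀ hW0 with hW
  let t : Fin (k + 1) → Fˣ := Fin.snoc (fun _ => s) (W * s⁻¹)
  set o := torus (k + 1) F t with ho
  let g : ↥(simG (plusForm (k + 1) F)) := Ctx.scalSim s * isoToSim o
  have hact : ∀ v : Fin (k + 1) ⊕ Fin (k + 1) → F, ((g : GL (Fin (k + 1) ⊕ Fin (k + 1)) F) : Matrix (Fin (k + 1) ⊕ Fin (k + 1)) _ F) *ᵥ v =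
      s₀ • Sum.elim (fun i => (t i : F) * v (.inl i)) (fun i => ((t i)⁻¹ : Fˣ) * v (.inr i)) := fun v => by
    rw [← torus_act t v]
    show ((scal s : GL _ F) * (o : GL (Fin (k + 1) ⊕ Fin (k + 1)) F)).1 *ᵥ v = _
    rw [Units.val_mul, ← Matrix.mulVec_mulVec, CfsgLib.PGOQuot.scal_mulVec]
    rfl
  have hσW : (σ : F ≃+* F) ((σ : F ≃+* F) W₀) = W₀ := by
    have := DFunLike.congr_fun (pow_orderOf_eq_one (σ : F ≃+* F)) W₀
    rwa [hσ, pow_two] at this
  have hsq : (σ : F ≃+* F) (s₀ * s₀) = s₀ * s₀ := by rw [← hs₀, hf]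
  have hval1 : ∀ i : Fin k, s₀ * (t i.castSucc : F) = f ν ∧ s₀ * ((t i.castSucc)⁻¹ : Fˣ) = 1 := fun i => by
    simp only [t, Fin.snoc_castSucc, hs, Units.val_mk0, Units.val_inv_eq_inv_val]
    exact ⟨hs₀.symm, mul_inv_cancel₀ hs0⟩
  have hval2 : s₀ * (t (Fin.last k) : F) = W₀ ∧ s₀ * ((t (Fin.last k))⁻¹ : Fˣ) = (σ : F ≃+* F) W₀ := by
    simp only [t, Fin.snoc_last, hs, hW, Units.val_mul, Units.val_mk0, _root_.mul_inv_rev, inv_inv,
      Units.val_inv_eq_inv_val]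
    refine ⟨by field_simp, ?_⟩
    field_simp
    linear_combination -hW₀ - hs₀
  have hfix : (lastRefl k F : GL (Fin (k + 1) ⊕ Fin (k + 1)) F) * mapGL (σ : F ≃+* F) (g : GL _ F) =
      (g : GL (Fin (k + 1) ⊕ Fin (k + 1)) F) * (lastRefl k F : GL (Fin (k + 1) ⊕ Fin (k + 1)) F) := by
    refine CfsgLib.PGOQuot.gl_ext fun x => ?_
    obtain ⟨w, rfl⟩ : ∃ w, (fun i => (σ : F ≃+* F) (w i)) = x :=
      ⟨fun i => (σ : F ≃+* F).symm (x i), funext fun i => (σ : F ≃+* F).apply_symm_apply _⟩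
    rw [Units.val_mul, Units.val_mul, ← Matrix.mulVec_mulVec, ← Matrix.mulVec_mulVec, CfsgLib.Descent.mapGL_coe,
      ← CfsgLib.Descent.map_mulVec_apply, hact, hact, lastRefl_mulVec, lastRefl_mulVec]
    funext j
    rcases j with j | j <;> induction j using Fin.lastCases <;>
      simp only [Sum.elim_inl, Sum.elim_inr, Fin.snoc_last, Fin.snoc_castSucc, Pi.smul_apply, smul_eq_mul,
        ← mul_assoc, map_mul, hval2, hval1, map_one, one_mul, hf, hσW]
  set M := tr (frameEquiv k h).symm (g : GL (Fin (k + 1) ⊕ Fin (k + 1)) F) with hM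
  have hgM : tr (frameEquiv k h) M = (g : GL (Fin (k + 1) ⊕ Fin (k + 1)) F) := tr_tr_symm _ _
  rw [← hgM, refl_map_tr _ h h1 h2, mul_left_inj] at hfix
  obtain ⟨A, hA⟩ := exists_base_of_fixed f hf' (tr_injective _ hfix)
  have hAsim : ∀ v, minusForm k F₀ a₀ b₀ ((A : Matrix (Idx k) (Idx k) F₀) *ᵥ v) =
      ν * minusForm k F₀ a₀ b₀ v := fun v => f.injective (by
    rw [map_mul, ← minusForm_liftVec f ha hb, ← minusForm_liftVec f ha hb, ← frame_form h, ← frame_form h,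
      ← CfsgLib.Descent.mulVec_liftVec]
    show plusForm (k + 1) F (frameEquiv k h ((Matrix.GeneralLinearGroup.map f A : GL (Idx k) F).1 *ᵥ _)) = _
    rw [hA, ← tr_mulVec, hgM]
    show plusForm (k + 1) F (((scal s : GL _ F) * (o : GL (Fin (k + 1) ⊕ Fin (k + 1)) F)).1 *ᵥ _) = _
    rw [Units.val_mul, ← Matrix.mulVec_mulVec, CfsgLib.PGOQuot.scal_mulVec, QuadraticMap.map_smul, smul_eq_mul,
      show plusForm (k + 1) F ((o : GL (Fin (k + 1) ⊕ Fin (k + 1)) F).1 *ᵥ _) = _ from o.2 (frameEquiv k h (liftVec f v)) (frameEquiv k h (liftVec f v)), hs₀]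
    rfl)
  let A' : ↥(simG (minusForm k F₀ a₀ b₀)) := ⟨A, Units.mk0 ν hν, hAsim⟩
  have hemb : emb f h ha hb A' = g := Subtype.ext (by rw [emb_coe]; show tr _ (Matrix.GeneralLinearGroup.map f A) = _; rw [hA, hgM])
  refine ⟨A', o, s, s, ?_, ?_, hemb, detHom_torus t, ?_, ν, hν, hns, hs₀.symm⟩
  · rw [← par_emb_iff f h ha hb hk hab, hemb]
    show par (Ctx.scalSim s * isoToSim o) = 1
    rw [map_mul, show par (Ctx.scalSim (Q := plusForm (k + 1) F) s) = 1 from CfsgLib.FieldAutPlus.par_scal s _,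
      one_mul, CfsgLib.FieldAutPlus.par_apply, CfsgLib.PGOQuot.isoToSim_coe, parNat_torus, ofAdd_zero]
  · rw [Ctx.sq, MonoidHom.comp_apply, Ctx.mu_eq _ (g := A') (c := Units.mk0 ν hν) hAsim,
      CfsgLib.PGOQuot.sqSign_eq_neg_one_iff]
    exact hns
  · have hWns : sqSign W = -1 := by
      rw [CfsgLib.PGOQuot.sqSign_eq_neg_one_iff]
      rintro ⟨t, ht⟩
      rw [hW, Units.val_mk0] at ht
      have hσt : (σ : F ≃+* F) ((σ : F ≃+* F) t) = t := by
        have := DFunLike.congr_fun (pow_orderOf_eq_one (σ : F ≃+* F)) t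
        rwa [hσ, pow_two] at this
      obtain ⟨n, hn⟩ := hf' (t * (σ : F ≃+* F) t) (by rw [map_mul, hσt, mul_comm])
      exact hns ⟨n, f.injective (by rw [map_mul, hn, ← hW₀, ht, map_mul]; ring)⟩
    rw [ho, theta_torus h2F, Fin.prod_univ_castSucc]
    simp only [t, Fin.snoc_castSucc, Fin.snoc_last, Finset.prod_const, Finset.card_univ, Fintype.card_fin,
      map_mul, map_inv, hWns, Int.units_inv_eq_self]
    rw [neg_one_mul, mul_neg, ← pow_succ]

include h ha hb in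
/-- The number of classes in odd characteristic. -/
theorem split_odd (hodd : Odd (Fintype.card F)) (hodd₀ : Odd (Fintype.card F₀))
    (hcard : Fintype.card F = Fintype.card F₀ ^ 2) (hk : 3 ≤ k) (hab : Aniso a₀ b₀)
    (hσ : orderOf (σ : F ≃+* F) = 2) (h1 : (σ : F ≃+* F) θ = θ') (h2 : (σ : F ≃+* F) θ' = θ)
    (hf : ∀ a, (σ : F ≃+* F) (f a) = f a) (hf' : ∀ x, (σ : F ≃+* F) x = x → ∃ a, f a = x) :
    ((Odd (k + 1) ∧ Fintype.card F₀ % 4 = 1) →
      splitClassCount ((K0 (k + 1) F).map (simAut (Q := plusForm (k + 1) F)))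
        (Cfsg.Inn (POmega F ⇑(plusForm (k + 1) F))) (std k σ) = 4) ∧
    (¬(Odd (k + 1) ∧ Fintype.card F₀ % 4 = 1) →
      splitClassCount ((K0 (k + 1) F).map (simAut (Q := plusForm (k + 1) F)))
        (Cfsg.Inn (POmega F ⇑(plusForm (k + 1) F))) (std k σ) = 2) := by
  have h2F := CfsgLib.PGOQuot.Plus.two_ne_zero' hodd
  have hm : 3 ≤ k + 1 := by omega
  have hq₀ : Fintype.card F₀ % 4 = 1 ∨ Fintype.card F₀ % 4 = 3 := by
    have := Nat.odd_iff.mp hodd₀
    omega
  have hq : Fintype.card F % 4 = 1 := by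
    rw [hcard, Nat.pow_mod]
    rcases hq₀ with h | h <;> rw [h]
  set C := CfsgLib.PGOQuot.Plus.ctx hodd hm with hC
  obtain ⟨S, hu, -⟩ := CfsgLib.PGOQuot.Plus.exists_sim (F := F) hodd hm
  have hneg := (CfsgLib.PGOQuot.Plus.th_negI (F := F) hodd hm).2 (fun h3 => by omega)
  have hG : (K0 (k + 1) F).map (simAut (Q := plusForm (k + 1) F)) = C.eps.ker.map simAut := by
    congr 1
    ext g
    rw [mem_K0, MonoidHom.mem_ker, ← CfsgLib.FieldAutPlus.preserves_iff_par,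
      CfsgLib.PGOQuot.Plus.preserves_iff_eps hodd hm]
  have hidx : (Cfsg.Inn (POmega F ⇑(plusForm (k + 1) F))).relIndex
      ((K0 (k + 1) F).map (simAut (Q := plusForm (k + 1) F))) = 4 := by
    rw [hG]
    rcases Nat.even_or_odd (k + 1) with he | ho
    · obtain ⟨φ, hφ, hker⟩ := S.proper_klein hneg (by rw [hu, he.neg_one_pow])
      rw [CfsgLib.PGOQuot.relIndex_eq_card _ _ φ hφ hker]
      simp
    · obtain ⟨φ, hφ, hker⟩ := S.proper_four hneg (by rw [hu, ho.neg_one_pow])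
      rw [CfsgLib.PGOQuot.relIndex_eq_card _ _ φ hφ hker]
      simp
  rw [CfsgLib.AutPSL.splitClassCount_eq_relIndex _ _ (inn_le_inndiag k)
    (fun g _ j hj => Subgroup.Normal.conj_mem inferInstance j hj g),
    centralizer_eq_map f h ha hb hk hab h1 h2 hf hf']
  obtain ⟨A₁, o, c, s, hA₁, hsq₁, he₁, hdo, htho, ν, hν, hns, hsν⟩ :=
    exists_witness f h ha hb hodd hodd₀ hcard hk hab hσ h1 h2 hf hf'
  have hout₁ : outer (emb f h ha hb A₁) = outer (isoToSim o) := by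
    rw [he₁, map_mul, C.outer_scal, one_mul]
  obtain ⟨hs1, hs3⟩ := sqSign_sqrt f h2F hcard hν hns hsν
  have hall : ∀ A ∈ CfsgLib.MinusField.properSub k a₀ b₀,
      outer (emb f h ha hb A) = 1 ∨ outer (emb f h ha hb A) = outer (isoToSim o) := fun A hA => by
    rcases Int.units_eq_one_or ((CfsgLib.PGOQuot.Minus.ctx hodd₀ hk hab).sq A) with h3 | h3
    · exact Or.inl (inner_of_square f h ha hb hodd hodd₀ hcard hk hab hA h3)
    · have h4 := inner_of_square f h ha hb hodd hodd₀ hcard hk hab (mul_mem (inv_mem hA₁) hA)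
        (by rw [map_mul, map_inv, hsq₁, h3, inv_mul_cancel])
      rw [map_mul, map_mul, map_inv, map_inv, inv_mul_eq_one] at h4
      exact Or.inr (h4.symm.trans hout₁)
  constructor
  · rintro ⟨hodd1, hq1⟩
    have ho1 : outer (isoToSim o) = 1 := C.outer_omega hdo (by rw [htho, hs1 hq1, hodd1.neg_one_pow, neg_neg])
    rw [sup_eq_right.mpr (show (CfsgLib.MinusField.properSub k a₀ b₀).map (simAut.comp (emb f h ha hb)) ≤
        Cfsg.Inn (POmega F ⇑(plusForm (k + 1) F)) from by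
      rintro _ ⟨A, hA, rfl⟩
      rw [MonoidHom.comp_apply, CfsgLib.PGOQuot.mem_map_Inn_iff]
      rcases hall A hA with h3 | h3
      · exact h3
      · rw [h3, ho1])]
    exact hidx
  · intro hne
    have hth : theta (Q := plusForm (k + 1) F) 1 o = -1 := by
      rw [htho]
      rcases hq₀ with hq1 | hq3
      · rw [hs1 hq1, (Nat.not_odd_iff_even.mp fun ho => hne ⟨ho, hq1⟩).neg_one_pow]
      · rw [hs3 hq3, one_pow]
    have hz : outer (isoToSim o) = C.z := C.outer_proper_of_th hdo hth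
    set P := (CfsgLib.PGOQuot.soSub (plusForm (k + 1) F)).map (simAut (Q := plusForm (k + 1) F)) with hP
    have hInnP : Cfsg.Inn (POmega F ⇑(plusForm (k + 1) F)) ≤ P := by
      rintro _ ⟨x, rfl⟩
      induction x using QuotientGroup.induction_on with
      | _ w =>
        exact ⟨isoToSim w.1, CfsgLib.PGOQuot.mem_soSub_iff.mpr ⟨w.1,
          ((CfsgLib.OrthSpinor.mem_Omega_iff C.h2 C.nondeg C.two_le_card one_ne_zero _).mp w.2).1, rfl⟩,
          CfsgLib.PGOQuot.simAut_omega w⟩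
    have hPG : P ≤ (K0 (k + 1) F).map (simAut (Q := plusForm (k + 1) F)) := by
      rw [hG]
      rintro _ ⟨g, hg, rfl⟩
      obtain ⟨o', ho', rfl⟩ := CfsgLib.PGOQuot.mem_soSub_iff.mp hg
      exact ⟨_, (C.eps_isoToSim o').trans ho', rfl⟩
    have hsup : (CfsgLib.MinusField.properSub k a₀ b₀).map (simAut.comp (emb f h ha hb)) ⊔
        Cfsg.Inn (POmega F ⇑(plusForm (k + 1) F)) = P := by
      apply le_antisymm
      · refine sup_le ?_ hInnP
        rintro _ ⟨A, hA, rfl⟩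
        rcases hall A hA with h3 | h3
        · exact hInnP ((CfsgLib.PGOQuot.mem_map_Inn_iff _).mpr h3)
        · have h4 : simAut (emb f h ha hb A * (isoToSim o)⁻¹) ∈ Cfsg.Inn (POmega F ⇑(plusForm (k + 1) F)) :=
            (CfsgLib.PGOQuot.mem_map_Inn_iff _).mpr (by rw [map_mul, map_inv, h3, mul_inv_cancel])
          exact mem_of_mul_inv (simAut (Q := plusForm (k + 1) F)) P (hInnP h4)
            (Subgroup.mem_map_of_mem simAut (CfsgLib.PGOQuot.mem_soSub_iff.mpr ⟨o, hdo, rfl⟩))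
      · rintro _ ⟨g, hg, rfl⟩
        obtain ⟨o', ho', rfl⟩ := CfsgLib.PGOQuot.mem_soSub_iff.mp hg
        rcases C.outer_proper ho' with ⟨h3, -⟩ | ⟨h3, -⟩
        · exact Subgroup.mem_sup_right ((CfsgLib.PGOQuot.mem_map_Inn_iff _).mpr h3)
        · have h4 : simAut (isoToSim o' * (emb f h ha hb A₁)⁻¹) ∈ Cfsg.Inn (POmega F ⇑(plusForm (k + 1) F)) :=
            (CfsgLib.PGOQuot.mem_map_Inn_iff _).mpr (map_mul_inv_eq_one outer
              (h3.trans (hout₁.trans hz).symm))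
          have h5 : simAut (emb f h ha hb A₁) ∈
              (CfsgLib.MinusField.properSub k a₀ b₀).map (simAut.comp (emb f h ha hb)) :=
            mem_map_comp (simAut (Q := plusForm (k + 1) F)) (emb f h ha hb) hA₁
          exact mem_of_mul_inv (simAut (Q := plusForm (k + 1) F))
            ((CfsgLib.MinusField.properSub k a₀ b₀).map (simAut.comp (emb f h ha hb)) ⊔
              Cfsg.Inn (POmega F ⇑(plusForm (k + 1) F)))
            (a := isoToSim o') (b := emb f h ha hb A₁) (Subgroup.mem_sup_right h4) (Subgroup.mem_sup_left h5)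
    rw [hsup]
    have h3 := Subgroup.relIndex_mul_relIndex _ _ _ hInnP hPG
    have h4 : (Cfsg.Inn (POmega F ⇑(plusForm (k + 1) F))).relIndex P = 2 := by
      have := S.relIndex_pso.2 hneg
      rwa [CfsgLib.PGOQuot.psoAut_eq] at this
    have h5 : 2 * P.relIndex ((K0 (k + 1) F).map (simAut (Q := plusForm (k + 1) F))) = 4 :=
      (congrArg (· * P.relIndex ((K0 (k + 1) F).map (simAut (Q := plusForm (k + 1) F)))) h4.symm).trans (h3.trans hidx)
    omega

end CfsgLib.GraphFieldPlus
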