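import Cfsg.Agent.Lib.FieldAutPlus.Normal
import Cfsg.Agent.Lib.MinusField.Proper

/-!
The frame of fixed vectors of the standard involutory graph-field semilinear map of the split form: the reflection
interchanging the last hyperbolic pair composed with a field involution, fixing a minus type space over the fixed field.
-/

set_option autoImplicit false
set_option linter.style.haveILetI false
set_option linter.unusedSectionVars false
set_option maxHeartbeats 400000

namespace CfsgLib.GraphFieldPlus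

open Matrix QuadraticMap Cfsg
open CfsgLib.OrthCrit (plusForm minusForm)
open CfsgLib.PGOQuot (simG simAut scal)
open CfsgLib.PGOQuot.Minus (Idx)
open CfsgLib.Descent (invAut fieldAut simMap liftVec mapGL)
open CfsgLib.FieldAutPlus (refl refl_coe)

/-! ### Change of coordinates -/

section Transport

variable {F : Type*} [Field F] {ι κ : Type} [Fintype ι] [DecidableEq ι] [Fintype κ] [DecidableEq κ]

/-- Transport of invertible matrices along a linear equivalence. -/
noncomputable def tr (L : (ι → F) ≃ₗ[F] (κ → F)) : GL ι F →* GL κ F :=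
  (Matrix.GeneralLinearGroup.toLin.symm.toMonoidHom).comp
    ((LinearMap.GeneralLinearGroup.congrLinearEquiv L).toMonoidHom.comp
      Matrix.GeneralLinearGroup.toLin.toMonoidHom)

theorem tr_coe (L : (ι → F) ≃ₗ[F] (κ → F)) (A : GL ι F) :
    ((tr L A : GL κ F) : Matrix κ κ F) =
      LinearMap.toMatrix' (L.toLinearMap ∘ₗ Matrix.toLin' (A : Matrix ι ι F) ∘ₗ L.symm.toLinearMap) := rfl

theorem tr_mulVec (L : (ι → F) ≃ₗ[F] (κ → F)) (A : GL ι F) (v : ι → F) :
    ((tr L A : GL κ F) : Matrix κ κ F) *ᵥ L v = L ((A : Matrix ι ι F) *ᵥ v) := by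
  rw [tr_coe, LinearMap.toMatrix'_mulVec]
  simp

theorem tr_ext {L : (ι → F) ≃ₗ[F] (κ → F)} {g h : GL κ F}
    (H : ∀ v, (g : Matrix κ κ F) *ᵥ L v = (h : Matrix κ κ F) *ᵥ L v) : g = h :=
  CfsgLib.PGOQuot.gl_ext fun x => by
    obtain ⟨v, rfl⟩ := L.surjective x
    exact H v

theorem tr_injective (L : (ι → F) ≃ₗ[F] (κ → F)) : Function.Injective (tr L) := fun A B h =>
  CfsgLib.PGOQuot.gl_ext fun v => L.injective (by rw [← tr_mulVec, ← tr_mulVec, h])

theorem tr_tr_symm (L : (ι → F) ≃ₗ[F] (κ → F)) (g : GL κ F) : tr L (tr L.symm g) = g :=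
  tr_ext (L := L) fun v => by
    rw [tr_mulVec]
    obtain ⟨w, hw⟩ : ∃ w, L v = w := ⟨_, rfl⟩
    have hv : v = L.symm w := by rw [← hw, L.symm_apply_apply]
    rw [hw, hv, tr_mulVec, L.apply_symm_apply]

theorem tr_scal (L : (ι → F) ≃ₗ[F] (κ → F)) (c : Fˣ) : tr L (scal c) = scal c :=
  tr_ext (L := L) fun v => by
    rw [tr_mulVec, CfsgLib.PGOQuot.scal_mulVec, CfsgLib.PGOQuot.scal_mulVec, _root_.map_smul]

theorem det_tr (L : (ι → F) ≃ₗ[F] (κ → F)) (A : GL ι F) :
    ((tr L A : GL κ F) : Matrix κ κ F).det = (A : Matrix ι ι F).det := by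
  rw [tr_coe, LinearMap.det_toMatrix', LinearMap.det_conj, LinearMap.det_toLin']

theorem finrank_tr_sub_one (L : (ι → F) ≃ₗ[F] (κ → F)) (A : GL ι F) :
    Module.finrank F (LinearMap.range (Matrix.toLin' (((tr L A : GL κ F) : Matrix κ κ F) - 1))) =
      Module.finrank F (LinearMap.range (Matrix.toLin' ((A : Matrix ι ι F) - 1))) := by
  have e : Matrix.toLin' (((tr L A : GL κ F) : Matrix κ κ F) - 1) =
      L.toLinearMap ∘ₗ Matrix.toLin' ((A : Matrix ι ι F) - 1) ∘ₗ L.symm.toLinearMap := by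
    refine LinearMap.ext fun x => ?_
    obtain ⟨v, rfl⟩ := L.surjective x
    simp [Matrix.toLin'_apply, Matrix.sub_mulVec, tr_mulVec]
  rw [e, LinearMap.range_comp, LinearMap.range_comp_of_range_eq_top _ (LinearEquiv.range _),
    LinearEquiv.finrank_map_eq]

end Transport

/-! ### The frame -/

variable {F : Type*} [Field F] {k : ℕ}

/-- The coordinates of the fixed space. -/
def frameMap (k : ℕ) (θ θ' : F) : (Idx k → F) →ₗ[F] (Fin (k + 1) ⊕ Fin (k + 1) → F) where
  toFun v := Sum.elim (Fin.snoc (fun i => v (.inl (.inl i))) (v (.inr 0) + θ * v (.inr 1)))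
    (Fin.snoc (fun i => v (.inl (.inr i))) (v (.inr 0) + θ' * v (.inr 1)))
  map_add' u v := by
    funext j
    rcases j with j | j <;> induction j using Fin.lastCases <;> simp <;> ring
  map_smul' c v := by
    funext j
    rcases j with j | j <;> induction j using Fin.lastCases <;> simp <;> ring

theorem frameMap_apply (θ θ' : F) (v : Idx k → F) :
    frameMap k θ θ' v = Sum.elim (Fin.snoc (fun i => v (.inl (.inl i))) (v (.inr 0) + θ * v (.inr 1)))
      (Fin.snoc (fun i => v (.inl (.inr i))) (v (.inr 0) + θ' * v (.inr 1))) := rfl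

theorem frameMap_injective {θ θ' : F} (h : θ ≠ θ') : Function.Injective (frameMap k θ θ') := by
  refine (injective_iff_map_eq_zero _).mpr fun v hv => ?_
  have hl := congrFun hv (Sum.inl (Fin.last k))
  have hr := congrFun hv (Sum.inr (Fin.last k))
  simp [frameMap_apply] at hl hr
  have h1 : v (.inr 1) = 0 := (mul_eq_zero.mp (show (θ - θ') * v (.inr 1) = 0 by
    linear_combination hl - hr)).resolve_left (sub_ne_zero.mpr h)
  rw [h1, mul_zero, add_zero] at hl
  funext j
  rcases j with (i | i) | i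
  · simpa [frameMap_apply] using congrFun hv (Sum.inl i.castSucc)
  · simpa [frameMap_apply] using congrFun hv (Sum.inr i.castSucc)
  · fin_cases i
    · exact hl
    · exact h1

/-- The frame, as a linear equivalence. -/
noncomputable def frameEquiv (k : ℕ) {θ θ' : F} (h : θ ≠ θ') :
    (Idx k → F) ≃ₗ[F] (Fin (k + 1) ⊕ Fin (k + 1) → F) :=
  LinearMap.linearEquivOfInjective (frameMap k θ θ') (frameMap_injective h) (by simp; omega)

theorem frameEquiv_apply {θ θ' : F} (h : θ ≠ θ') (v : Idx k → F) :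
    frameEquiv k h v = frameMap k θ θ' v := rfl

theorem frame_form {θ θ' : F} (h : θ ≠ θ') (v : Idx k → F) :
    plusForm (k + 1) F (frameEquiv k h v) = minusForm k F (θ + θ') (θ * θ') v := by
  show Cfsg.quadFormPlus (k + 1) F (frameEquiv k h v) = Cfsg.quadFormMinus k F (θ + θ') (θ * θ') v
  simp [frameEquiv_apply, frameMap_apply, Cfsg.quadFormPlus, Cfsg.quadFormMinus, Fin.sum_univ_castSucc]
  ring

/-- The vector whose reflection interchanges the last pair. -/
def lastVec (k : ℕ) (F : Type*) [Field F] : Fin (k + 1) ⊕ Fin (k + 1) → F :=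
  Pi.single (.inl (Fin.last k)) 1 - Pi.single (.inr (Fin.last k)) 1

theorem lastVec_norm : Cfsg.quadFormPlus (k + 1) F (lastVec k F) = -1 := by
  simp [lastVec, Cfsg.quadFormPlus, Pi.single_apply, Fin.sum_univ_castSucc, Fin.castSucc_ne_last]

theorem lastVec_ne : Cfsg.quadFormPlus (k + 1) F (lastVec k F) ≠ 0 := by
  rw [lastVec_norm]; exact neg_ne_zero.mpr one_ne_zero

theorem lastVec_fix (σ : F ≃+* F) (i : Fin (k + 1) ⊕ Fin (k + 1)) : σ (lastVec k F i) = lastVec k F i := by
  rw [lastVec, Pi.sub_apply, map_sub, Pi.single_apply, Pi.single_apply]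
  congr 1 <;> split_ifs <;> simp

/-- The reflection interchanging the last pair. -/
noncomputable def lastRefl (k : ℕ) (F : Type*) [Field F] : ↥(simG (plusForm (k + 1) F)) :=
  refl (lastVec_ne (k := k) (F := F))

theorem lastRefl_mulVec (w : Fin (k + 1) ⊕ Fin (k + 1) → F) :
    ((lastRefl k F : GL (Fin (k + 1) ⊕ Fin (k + 1)) F) : Matrix (Fin (k + 1) ⊕ Fin (k + 1)) _ F) *ᵥ w =
      Sum.elim (Fin.snoc (fun i => w (.inl i.castSucc)) (w (.inr (Fin.last k))))
        (Fin.snoc (fun i => w (.inr i.castSucc)) (w (.inl (Fin.last k)))) := by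
  rw [lastRefl, refl_coe, ← show ⇑(plusForm (k + 1) F) = Cfsg.quadFormPlus (k + 1) F from rfl,
    CfsgLib.OrthSpinor.reflectionMatrix_mulVec]
  have hpol : polar (⇑(plusForm (k + 1) F)) (lastVec k F) w = w (.inr (Fin.last k)) - w (.inl (Fin.last k)) := by
    rw [CfsgLib.OrthCrit.polar_plusForm]
    simp [lastVec, Pi.single_apply, Fin.sum_univ_castSucc, Fin.castSucc_ne_last]
    ring
  rw [hpol, show plusForm (k + 1) F (lastVec k F) = -1 from lastVec_norm]
  funext j
  rcases j with j | j <;> induction j using Fin.lastCases <;>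
    simp [lastVec, Pi.single_apply, Fin.castSucc_ne_last]

theorem semi_frame (σ : F ≃+* F) {θ θ' : F} (h : θ ≠ θ') (h1 : σ θ = θ') (h2 : σ θ' = θ) (v : Idx k → F) :
    ((lastRefl k F : GL (Fin (k + 1) ⊕ Fin (k + 1)) F) : Matrix (Fin (k + 1) ⊕ Fin (k + 1)) _ F) *ᵥ
        (fun i => σ (frameEquiv k h v i)) = frameEquiv k h fun i => σ (v i) := by
  rw [lastRefl_mulVec]
  funext j
  rcases j with j | j <;> induction j using Fin.lastCases <;>
    simp [frameEquiv_apply, frameMap_apply, h1, h2]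

theorem refl_map_tr (σ : F ≃+* F) {θ θ' : F} (h : θ ≠ θ') (h1 : σ θ = θ') (h2 : σ θ' = θ) (A : GL (Idx k) F) :
    (lastRefl k F : GL (Fin (k + 1) ⊕ Fin (k + 1)) F) * mapGL σ (tr (frameEquiv k h) A) =
      tr (frameEquiv k h) (mapGL σ A) * (lastRefl k F : GL (Fin (k + 1) ⊕ Fin (k + 1)) F) := by
  refine CfsgLib.PGOQuot.gl_ext fun x => ?_
  obtain ⟨v, rfl⟩ : ∃ v, (fun i => σ (frameEquiv k h v i)) = x := by
    obtain ⟨v, hv⟩ := (frameEquiv k h).surjective (fun i => σ.symm (x i))
    exact ⟨v, funext fun i => by rw [hv]; exact σ.apply_symm_apply _⟩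
  rw [Units.val_mul, Units.val_mul, ← Matrix.mulVec_mulVec, ← Matrix.mulVec_mulVec,
    CfsgLib.Descent.mapGL_coe, ← CfsgLib.Descent.map_mulVec_apply, tr_mulVec, semi_frame σ h h1 h2,
    semi_frame σ h h1 h2, tr_mulVec]
  congr 1
  exact CfsgLib.Descent.map_mulVec_apply σ _ v

/-! ### The base group -/

section Base

variable {F₀ : Type*} [Field F₀] (f : F₀ →+* F)

theorem minusForm_liftVec {a₀ b₀ : F₀} {a b : F} (ha : f a₀ = a) (hb : f b₀ = b) (v : Idx k → F₀) :
    minusForm k F a b (liftVec f v) = f (minusForm k F₀ a₀ b₀ v) := by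
  subst ha hb
  simp [liftVec, Cfsg.quadFormMinus, map_sum]

theorem emb_mem {θ θ' : F} (h : θ ≠ θ') {a₀ b₀ : F₀} (ha : f a₀ = θ + θ') (hb : f b₀ = θ * θ')
    (A : ↥(simG (minusForm k F₀ a₀ b₀))) :
    tr (frameEquiv k h) (Matrix.GeneralLinearGroup.map f (A : GL (Idx k) F₀)) ∈ simG (plusForm (k + 1) F) := by
  obtain ⟨c, hc⟩ := A.2
  refine ⟨Units.map f.toMonoidHom c, fun w => ?_⟩
  obtain ⟨v, rfl⟩ := (frameEquiv k h).surjective w
  rw [tr_mulVec, frame_form, frame_form]
  exact CfsgLib.Descent.similar_map f (minusForm k F (θ + θ') (θ * θ')) ⇑(minusForm k F₀ a₀ b₀)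
    (minusForm_liftVec f ha hb) (A : GL (Idx k) F₀) c hc v

/-- The similarities of the minus form over the fixed field. -/
noncomputable def emb {θ θ' : F} (h : θ ≠ θ') {a₀ b₀ : F₀} (ha : f a₀ = θ + θ') (hb : f b₀ = θ * θ') :
    ↥(simG (minusForm k F₀ a₀ b₀)) →* ↥(simG (plusForm (k + 1) F)) :=
  ((tr (frameEquiv k h)).comp
    ((Matrix.GeneralLinearGroup.map f).comp (simG (minusForm k F₀ a₀ b₀)).subtype)).codRestrict _
      fun A => emb_mem f h ha hb A

theorem emb_coe {θ θ' : F} (h : θ ≠ θ') {a₀ b₀ : F₀} (ha : f a₀ = θ + θ') (hb : f b₀ = θ * θ')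
    (A : ↥(simG (minusForm k F₀ a₀ b₀))) :
    ((emb f h ha hb A : ↥(simG (plusForm (k + 1) F))) : GL (Fin (k + 1) ⊕ Fin (k + 1)) F) =
      tr (frameEquiv k h) (Matrix.GeneralLinearGroup.map f (A : GL (Idx k) F₀)) := rfl

end Base

end CfsgLib.GraphFieldPlus
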