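import Cfsg.Agent.Lib.GraphFieldPlus.Count
import Cfsg.Agent.Lib.AutPSL.GraphFieldCentral

/-!
Involutory graph-field automorphisms of the split projective orthogonal group.
-/

set_option autoImplicit false
set_option linter.style.haveILetI false
set_option linter.unusedSectionVars false
set_option maxHeartbeats 400000

namespace CfsgLib.GraphFieldPlus

open Matrix QuadraticMap Cfsg
open CfsgLib.OrthCrit (plusForm minusForm)
open CfsgLib.PGOQuot (simG simAut)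
open CfsgLib.Descent (invAut fieldAut)
open CfsgLib.FieldAutPlus (par K0 mem_K0 refl par_refl)
open CfsgLib.PGOQuot.Minus (Idx Aniso)

theorem conj_trans {G X : Type*} [Group G] [Group X] (φ : G →* X) {g h : G} {y z s : X}
    (h₁ : y = φ g * z * (φ g)⁻¹) (h₂ : z = φ h * s * (φ h)⁻¹) : y = φ (g * h) * s * (φ (g * h))⁻¹ := by
  rw [h₁, h₂, map_mul]; group

variable {F : Type*} [Field F] [Fintype F] {k : ℕ}

/-- The involutory graph-field automorphisms with field part `σ` are conjugate to the standard one. -/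
theorem conj_std (hk : 4 ≤ k) {p f : ℕ} [Fact p.Prime] (hF : Fintype.card F = p ^ f)
    {σ : ↥(invAut (plusForm (k + 1) F))} (hσ : orderOf (σ : F ≃+* F) = 2)
    {y : MulAut (POmega F ⇑(plusForm (k + 1) F))} (hy : IsGraphFieldAutClassPOmegaPlus (k + 1) y)
    (hy2 : orderOf y = 2) :
    ∃ a ∈ (K0 (k + 1) F).map (simAut (Q := plusForm (k + 1) F)), y = a * std k σ * a⁻¹ := by
  obtain ⟨g, hg, τ, v, hv, hτ, hfix, he⟩ :=
    CfsgLib.FieldAutPlus.graphField_normal (by omega) hy Nat.prime_two hy2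
  obtain rfl : τ = σ := Subtype.ext (RingEquiv.ext fun x => by
    rw [CfsgLib.AutPSL.involution_eq_pow hF hτ, CfsgLib.AutPSL.involution_eq_pow hF hσ])
  obtain ⟨h, hh, he'⟩ := CfsgLib.FieldAutPlus.conj_K0 (by omega) Nat.prime_two hσ
    (CfsgLib.FieldAutPlus.reflCoset_pow hσ hv hfix)
    (CfsgLib.FieldAutPlus.reflCoset_pow hσ (lastVec_ne (k := k) (F := F)) (lastVec_fix _))
    (by rw [par_refl, par_refl]) (Or.inr ⟨lastVec k F, lastVec_ne, lastVec_fix _, rfl⟩)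
  refine ⟨simAut (g * h), ⟨g * h, mul_mem hg hh, rfl⟩, ?_⟩
  exact conj_trans (simAut (Q := plusForm (k + 1) F)) he he'

variable {p f : ℕ} [Fact p.Prime] {F₀ : Type*} [Field F₀] [Fintype F₀]

theorem facts (hF : Fintype.card F = p ^ f) (hk : 4 ≤ k) {x : MulAut (POmega F ⇑(plusForm (k + 1) F))}
    (hx : IsGraphFieldAutClassPOmegaPlus (k + 1) x) (hx2 : orderOf x = 2)
    (hF₀ : Fintype.card F₀ = p ^ (f / 2)) :
    Even f ∧
    (∀ y : MulAut (POmega F ⇑(plusForm (k + 1) F)), IsGraphFieldAutClassPOmegaPlus (k + 1) y → orderOf y = 2 →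
      IsConjUnder ((K0 (k + 1) F).map (simAut (Q := plusForm (k + 1) F))) x y) ∧
    (∃ a₀ b₀ : F₀, (∀ z₁ z₂ : F₀, z₁ ^ 2 + a₀ * z₁ * z₂ + b₀ * z₂ ^ 2 = 0 → z₁ = 0 ∧ z₂ = 0) ∧
      Nonempty (↥((K0 (k + 1) F).map (simAut (Q := plusForm (k + 1) F)) ⊓ Subgroup.centralizer {x}) ≃*
        ↥(CfsgLib.MinusField.innd k a₀ b₀))) ∧
    (p = 2 → splitClassCount ((K0 (k + 1) F).map (simAut (Q := plusForm (k + 1) F)))
      (Cfsg.Inn (POmega F ⇑(plusForm (k + 1) F))) x = 1) ∧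
    ((p ≠ 2 ∧ Odd (k + 1) ∧ p ^ (f / 2) % 4 = 1) →
      splitClassCount ((K0 (k + 1) F).map (simAut (Q := plusForm (k + 1) F)))
        (Cfsg.Inn (POmega F ⇑(plusForm (k + 1) F))) x = 4) ∧
    ((p ≠ 2 ∧ ¬ (Odd (k + 1) ∧ p ^ (f / 2) % 4 = 1)) →
      splitClassCount ((K0 (k + 1) F).map (simAut (Q := plusForm (k + 1) F)))
        (Cfsg.Inn (POmega F ⇑(plusForm (k + 1) F))) x = 2) := by
  obtain ⟨-, -, σ, -, -, hσ, -, -⟩ := CfsgLib.FieldAutPlus.graphField_normal (by omega) hx Nat.prime_two hx2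
  obtain ⟨a, hamem, hxe⟩ := conj_std hk hF hσ hx hx2
  obtain ⟨hrn, -⟩ := CfsgLib.AutPSL.fixedField_card (σ : F ≃+* F) hF hσ
  obtain ⟨e⟩ := CfsgLib.AutPSL.exists_equiv_fixedField (σ : F ≃+* F) hF hσ hF₀
  let φ : F₀ →+* F := (CfsgLib.AutPSL.fixedField (σ : F ≃+* F)).subtype.comp e.toRingHom
  have hf1 : ∀ c, (σ : F ≃+* F) (φ c) = φ c := fun c => (CfsgLib.AutPSL.mem_fixedField _).mp (e c).2
  have hf' : ∀ y, (σ : F ≃+* F) y = y → ∃ c, φ c = y := fun y hy => ⟨e.symm ⟨y, hy⟩, by simp [φ]⟩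
  have hne : (σ : F ≃+* F) ≠ 1 := fun h => by rw [h, orderOf_one] at hσ; omega
  obtain ⟨θ, hθ⟩ : ∃ θ : F, θ ≠ (σ : F ≃+* F) θ := by
    by_contra hh
    push Not at hh
    exact hne (RingEquiv.ext fun y => (hh y).symm)
  have hσσ : (σ : F ≃+* F) ((σ : F ≃+* F) θ) = θ := by
    have := DFunLike.congr_fun (pow_orderOf_eq_one (σ : F ≃+* F)) θ
    rwa [hσ, pow_two] at this
  obtain ⟨a₀, ha₀⟩ := hf' (θ + (σ : F ≃+* F) θ) (by rw [map_add, hσσ, add_comm])
  obtain ⟨b₀, hb₀⟩ := hf' (θ * (σ : F ≃+* F) θ) (by rw [map_mul, hσσ, mul_comm])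
  have hab : Aniso a₀ b₀ := by
    intro z₁ z₂ hz
    have h1 : (φ z₁ + θ * φ z₂) * (φ z₁ + (σ : F ≃+* F) θ * φ z₂) = 0 := by
      have := congrArg φ hz
      simp only [map_add, map_mul, map_pow, map_zero, ha₀, hb₀] at this
      linear_combination this
    have h2 : φ z₂ = 0 := by
      by_contra h0
      have hfixθ : ∀ c d : F₀, φ c + θ * φ d = 0 → φ d = 0 := fun c d hcd => by
        have h3 := congrArg (σ : F ≃+* F) hcd
        rw [map_add, map_mul, hf1, hf1, map_zero] at h3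
        exact (mul_eq_zero.mp (show (θ - (σ : F ≃+* F) θ) * φ d = 0 by linear_combination hcd - h3)).resolve_left
          (sub_ne_zero.mpr hθ)
      rcases mul_eq_zero.mp h1 with h3 | h3
      · exact h0 (hfixθ _ _ h3)
      · have h4 := congrArg (σ : F ≃+* F) h3
        rw [map_add, map_mul, hf1, hf1, map_zero, hσσ] at h4
        exact h0 (hfixθ _ _ h4)
    have hz2 : z₂ = 0 := φ.injective (by rw [h2, map_zero])
    subst hz2
    exact ⟨pow_eq_zero_iff two_ne_zero |>.1 (by linear_combination hz), rfl⟩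
  have hfe : Even f := even_iff_two_dvd.mpr hrn
  have hcong : splitClassCount ((K0 (k + 1) F).map (simAut (Q := plusForm (k + 1) F)))
      (Cfsg.Inn (POmega F ⇑(plusForm (k + 1) F))) x =
      splitClassCount ((K0 (k + 1) F).map (simAut (Q := plusForm (k + 1) F)))
      (Cfsg.Inn (POmega F ⇑(plusForm (k + 1) F))) (std k σ) :=
    CfsgLib.AutPSL.splitClassCount_congr _ _ (CfsgLib.AutPSL.isConjUnder_symm ⟨a, hamem, hxe⟩)
  refine ⟨hfe, fun y hy hy2 => ?_, ⟨a₀, b₀, hab, ?_⟩, fun hp => ?_, fun hp => ?_, fun hp => ?_⟩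
  · obtain ⟨b, hb, hye⟩ := conj_std hk hF hσ hy hy2
    exact CfsgLib.AutPSL.isConjUnder_trans (CfsgLib.AutPSL.isConjUnder_symm ⟨a, hamem, hxe⟩) ⟨b, hb, hye⟩
  · obtain ⟨e₁⟩ := CfsgLib.AutPSL.centralizer_equiv_of_conj _ hamem hxe
    obtain ⟨e₂⟩ := centralizer_equiv φ hθ ha₀ hb₀ (by omega) hab rfl hσσ hf1 hf'
    exact ⟨e₁.trans e₂⟩
  · subst hp
    haveI : CharP F 2 := charP_of_card_eq_prime_pow hF
    rw [hcong]
    exact split_two (by omega) _
  all_goals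
    have hodd : Odd (Fintype.card F) := by
      rw [hF]; exact ((Fact.out : p.Prime).odd_of_ne_two hp.1).pow
    have hodd₀ : Odd (Fintype.card F₀) := by
      rw [hF₀]; exact ((Fact.out : p.Prime).odd_of_ne_two hp.1).pow
    have hcard : Fintype.card F = Fintype.card F₀ ^ 2 := by
      rw [hF, hF₀, ← pow_mul, Nat.div_mul_cancel hrn]
    obtain ⟨h4, h2⟩ := split_odd φ hθ ha₀ hb₀ hodd hodd₀ hcard (by omega) hab hσ rfl hσσ hf1 hf'
    rw [hcong]
  · exact h4 (by rw [hF₀]; exact hp.2)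
  · exact h2 (by rw [hF₀]; exact hp.2)

end CfsgLib.GraphFieldPlus
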