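import Cfsg.Agent.Lib.PGOQuot.Plus
import Cfsg.Agent.Lib.FieldAutPlus.Parity
import Cfsg.Agent.Lib.PGOQuot.Torus

/-!
The diagonal torus of the isometries of the split form and its spinor norm.
-/

set_option autoImplicit false
set_option linter.unusedSectionVars false

namespace CfsgLib.GraphFieldPlus

open Matrix QuadraticMap Cfsg
open CfsgLib.OrthCrit (plusForm)
open CfsgLib.OrthSpinor (act theta detHom)
open CfsgLib.PGOQuot (sqSign)

variable {F : Type*} [Field F] {m : ℕ}

/-- The diagonal matrices `diag(t, t⁻¹)`. -/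
def torusMat : (Fin m → Fˣ) →* Matrix (Fin m ⊕ Fin m) (Fin m ⊕ Fin m) F where
  toFun t := Matrix.diagonal (Sum.elim (fun i => (t i : F)) fun i => ((t i)⁻¹ : Fˣ))
  map_one' := by
    rw [← Matrix.diagonal_one]
    congr 1
    funext j; rcases j with j | j <;> simp
  map_mul' s t := by
    rw [Matrix.diagonal_mul_diagonal]
    congr 1
    funext j; rcases j with j | j <;> simp [mul_comm]

theorem torusMat_mulVec (t : Fin m → Fˣ) (v : Fin m ⊕ Fin m → F) :
    torusMat t *ᵥ v = Sum.elim (fun i => (t i : F) * v (.inl i)) (fun i => ((t i)⁻¹ : Fˣ) * v (.inr i)) := by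
  funext j
  show (Matrix.diagonal _ *ᵥ v) j = _
  rw [Matrix.mulVec_diagonal]
  rcases j with j | j <;> rfl

theorem torus_mem (t : Fin m → Fˣ) : (torusMat (F := F)).toHomUnits t ∈ isometryGroup F ⇑(plusForm m F) := by
  intro v _
  show Cfsg.quadFormPlus m F (torusMat t *ᵥ v) = Cfsg.quadFormPlus m F v
  simp only [Cfsg.quadFormPlus, torusMat_mulVec, Sum.elim_inl, Sum.elim_inr]
  refine Finset.sum_congr rfl fun i _ => ?_
  rw [mul_mul_mul_comm, Units.mul_inv, one_mul]

/-- The torus. -/
noncomputable def torus (m : ℕ) (F : Type*) [Field F] : (Fin m → Fˣ) →* ↥(isometryGroup F ⇑(plusForm m F)) :=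
  (torusMat (F := F)).toHomUnits.codRestrict _ torus_mem

theorem torus_act (t : Fin m → Fˣ) (v : Fin m ⊕ Fin m → F) :
    act (plusForm m F) (torus m F t) v =
      Sum.elim (fun i => (t i : F) * v (.inl i)) (fun i => ((t i)⁻¹ : Fˣ) * v (.inr i)) :=
  torusMat_mulVec t v

theorem detHom_torus (t : Fin m → Fˣ) : detHom (torus m F t) = 1 := by
  refine Units.ext ?_
  rw [CfsgLib.OrthSpinor.detHom_coe]
  show (torusMat t).det = _
  simp only [torusMat, MonoidHom.coe_mk, OneHom.coe_mk]
  rw [Matrix.det_diagonal, Fintype.prod_sum_type, ← Finset.prod_mul_distrib]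
  simp

theorem parNat_torus (t : Fin m → Fˣ) :
    CfsgLib.FieldAutPlus.parNat ((torus m F t : ↥(isometryGroup F ⇑(plusForm m F))) : GL (Fin m ⊕ Fin m) F) = 0 := by
  have h : CfsgLib.FieldAutPlus.lowerLeft (((torus m F t : ↥(isometryGroup F ⇑(plusForm m F))) :
      GL (Fin m ⊕ Fin m) F) : Matrix (Fin m ⊕ Fin m) (Fin m ⊕ Fin m) F) = 0 := by
    ext i j
    show torusMat t (Sum.inr i) (Sum.inl j) = _
    simp [torusMat]
  rw [CfsgLib.FieldAutPlus.parNat, h, Matrix.rank_zero, Nat.cast_zero]

/-- The spinor norm on the torus. -/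
theorem theta_torus [Fintype F] (h2 : (2 : F) ≠ 0) (t : Fin m → Fˣ) :
    theta (Q := plusForm m F) 1 (torus m F t) = ∏ i, sqSign (t i) := by
  classical
  have h1 : ∀ (i : Fin m) (c : Fˣ), theta (Q := plusForm m F) 1 (torus m F (Pi.mulSingle i c)) = sqSign c := by
    intro i c
    by_cases hc : IsSquare (c : F)
    · rw [(CfsgLib.PGOQuot.sqSign_eq_one_iff c).mpr hc]
      obtain ⟨s, hs⟩ := hc
      have hs0 : s ≠ 0 := fun h => c.ne_zero (by rw [hs, h, mul_zero])
      rw [show c = Units.mk0 s hs0 * Units.mk0 s hs0 from Units.ext hs, Pi.mulSingle_mul, map_mul, map_mul,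
        Int.units_mul_self]
    · rw [(CfsgLib.PGOQuot.sqSign_eq_neg_one_iff c).mpr hc]
      obtain ⟨u, -, hu, hact⟩ := CfsgLib.PGOQuot.exists_pair_scale (Q := plusForm m F) h2 c.ne_zero hc
        (e := Pi.single (Sum.inl i) 1) (f := Pi.single (Sum.inr i) 1)
        (by simp [Cfsg.quadFormPlus, Pi.single_apply]) (by simp [Cfsg.quadFormPlus, Pi.single_apply])
        (by simp [CfsgLib.OrthCrit.polar_plusForm, Pi.single_apply])
      rw [show torus m F (Pi.mulSingle i c) = u from CfsgLib.OrthSpinor.ext_act _ fun v => ?_, hu]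
      rw [torus_act, hact]
      funext j
      rcases j with j | j <;> by_cases hij : j = i
      · subst hij
        simp [CfsgLib.OrthCrit.polar_plusForm, Pi.single_apply]
        ring
      · simp [CfsgLib.OrthCrit.polar_plusForm, Pi.single_apply, hij]
      · subst hij
        simp [CfsgLib.OrthCrit.polar_plusForm, Pi.single_apply]
        ring
      · simp [CfsgLib.OrthCrit.polar_plusForm, Pi.single_apply, hij]
  conv_lhs => rw [← Finset.univ_prod_mulSingle t]
  show ((theta (Q := plusForm m F) 1).comp (torus m F)) _ = _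
  rw [map_prod]
  exact Finset.prod_congr rfl fun i _ => h1 i (t i)

end CfsgLib.GraphFieldPlus
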