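import Cfsg.Agent.Lib.GraphFieldPlus.Central
import Cfsg.Agent.Lib.GraphFieldPlus.Torus

/-!
The splitting of the class of the standard involutory graph-field automorphism into inner classes.
-/

set_option autoImplicit false
set_option linter.style.haveILetI false
set_option linter.unusedSectionVars false
set_option maxHeartbeats 400000

namespace CfsgLib.GraphFieldPlus

open Matrix QuadraticMap Cfsg
open CfsgLib.OrthCrit (plusForm minusForm parity)
open CfsgLib.OrthSpinor (theta detHom reflection act)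
open CfsgLib.PGOQuot (simG simAut scal isoToSim sqSign outer)
open CfsgLib.PGOQuot.Minus (Idx Aniso)
open CfsgLib.Descent (invAut fieldAut simMap liftVec mapGL)
open CfsgLib.FieldAutPlus (par K0 mem_K0)

variable {F : Type*} [Field F] [Fintype F] {k : ℕ}

/-- The inner automorphisms are inner-diagonal. -/
theorem inn_le_inndiag (k : ℕ) :
    Cfsg.Inn (POmega F ⇑(plusForm (k + 1) F)) ≤ (K0 (k + 1) F).map (simAut (Q := plusForm (k + 1) F)) := by
  rintro _ ⟨x, rfl⟩
  induction x using QuotientGroup.induction_on with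
  | _ w =>
    refine ⟨isoToSim w.1, mem_K0.mpr ?_, CfsgLib.PGOQuot.simAut_omega w⟩
    have hw : w.1 ∈ ((par (F := F) (m := k + 1)).comp isoToSim).ker := Abelianization.commutator_subset_ker _ w.2
    exact hw

theorem inndiag_le_inn_two [CharP F 2] (hk : 2 ≤ k) :
    (K0 (k + 1) F).map (simAut (Q := plusForm (k + 1) F)) ≤ Cfsg.Inn (POmega F ⇑(plusForm (k + 1) F)) := by
  rintro _ ⟨g, hg, rfl⟩
  obtain ⟨c, o, rfl⟩ := CfsgLib.MinusField.exists_decomp_two g
  have hp := mem_K0.mp hg
  rw [map_mul, CfsgLib.FieldAutPlus.par_scal, one_mul, par_isoToSim_iff (by omega)] at hp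
  haveI : Nonempty (Fin (k + 1) ⊕ Fin (k + 1)) := ⟨Sum.inl 0⟩
  have hnd := CfsgLib.OrthCrit.ndPolar_plusForm (F := F) (k + 1)
  have ho := (CfsgLib.OrthCrit.mem_Omega_iff_char_two hnd
    (CfsgLib.MinusField.regular_of_five_le (by simp; omega)) (CfsgLib.OrthCrit.exists_Q_ne_zero hnd) o).mpr hp
  rw [map_mul, CfsgLib.Descent.simAut_scal, one_mul]
  exact ⟨QuotientGroup.mk ⟨o, ho⟩, (CfsgLib.PGOQuot.simAut_omega ⟨o, ho⟩).symm⟩

/-- One class in characteristic two. -/
theorem split_two [CharP F 2] (hk : 2 ≤ k) (x : MulAut (POmega F ⇑(plusForm (k + 1) F))) :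
    splitClassCount ((K0 (k + 1) F).map (simAut (Q := plusForm (k + 1) F)))
      (Cfsg.Inn (POmega F ⇑(plusForm (k + 1) F))) x = 1 := by
  rw [CfsgLib.AutPSL.splitClassCount_eq_relIndex _ _ (inn_le_inndiag k)
    (fun h _ j hj => Subgroup.Normal.conj_mem inferInstance j hj h), Subgroup.relIndex_eq_one]
  exact (inndiag_le_inn_two hk).trans le_sup_right

variable {F₀ : Type*} [Field F₀] [Fintype F₀] (f : F₀ →+* F)

theorem map_reflectionMatrix {ι : Type} [Fintype ι] [DecidableEq ι] (Q : QuadraticForm F (ι → F))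
    (Qb : QuadraticForm F₀ (ι → F₀)) (hQ : ∀ a, Q (liftVec f a) = f (Qb a)) (v : ι → F₀) :
    (reflectionMatrix ⇑Qb v).map f = reflectionMatrix ⇑Q (liftVec f v) := by
  have hpol : ∀ j, f (polarVec ⇑Qb v j) = polarVec ⇑Q (liftVec f v) j := fun j => by
    have h1 : (Pi.single j 1 : ι → F) = liftVec f (Pi.single j 1) := funext fun i => by
      by_cases hij : i = j
      · subst hij; simp [liftVec]
      · simp [liftVec, hij]
    have h2 : liftVec f v + liftVec f (Pi.single j 1) = liftVec f (v + Pi.single j 1) := funext fun i => by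
      simp [liftVec]
    rw [polarVec, polarVec, QuadraticMap.polar, QuadraticMap.polar, h1, h2, map_sub, map_sub, hQ, hQ, hQ]
  ext i j
  rw [Matrix.map_apply]
  simp only [reflectionMatrix, Matrix.sub_apply, Matrix.smul_apply, Matrix.vecMulVec_apply, smul_eq_mul, map_sub,
    map_mul, map_inv₀, hpol, ← hQ]
  by_cases hij : i = j
  · subst hij; simp
  · simp [hij]

variable {θ θ' : F} (h : θ ≠ θ') {a₀ b₀ : F₀} (ha : f a₀ = θ + θ') (hb : f b₀ = θ * θ')

include h ha hb in
theorem baseIso_reflection {v : Idx k → F₀} (hv : minusForm k F₀ a₀ b₀ v ≠ 0) :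
    ∃ hv' : plusForm (k + 1) F (frameEquiv k h (liftVec f v)) ≠ 0,
      baseIso f h ha hb (reflection hv) = reflection hv' ∧
      plusForm (k + 1) F (frameEquiv k h (liftVec f v)) = f (minusForm k F₀ a₀ b₀ v) := by
  have hval : plusForm (k + 1) F (frameEquiv k h (liftVec f v)) = f (minusForm k F₀ a₀ b₀ v) :=
    (frame_form h _).trans (minusForm_liftVec f ha hb v)
  have hv' : plusForm (k + 1) F (frameEquiv k h (liftVec f v)) ≠ 0 := by rw [hval]; simpa using hv
  refine ⟨hv', Subtype.ext (tr_ext (L := frameEquiv k h) fun w => ?_), hval⟩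
  rw [baseIso_coe, tr_mulVec]
  show frameEquiv k h ((reflectionMatrix ⇑(minusForm k F₀ a₀ b₀) v).map f *ᵥ w) =
    reflectionMatrix ⇑(plusForm (k + 1) F) (frameEquiv k h (liftVec f v)) *ᵥ frameEquiv k h w
  rw [map_reflectionMatrix f (minusForm k F (θ + θ') (θ * θ')) (minusForm k F₀ a₀ b₀) (minusForm_liftVec f ha hb),
    CfsgLib.OrthSpinor.reflectionMatrix_mulVec, CfsgLib.OrthSpinor.reflectionMatrix_mulVec, map_sub, _root_.map_smul]
  simp only [QuadraticMap.polar, ← map_add, frame_form]

/-- Elements of the base are squares in the quadratic extension. -/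
theorem isSquare_base (h2 : (2 : F) ≠ 0) (hcard : Fintype.card F = Fintype.card F₀ ^ 2) {c : F₀} (hc : c ≠ 0) :
    IsSquare (f c) := by
  have h20 : (2 : F₀) ≠ 0 := fun h => h2 (by rw [← map_ofNat f, h, map_zero])
  have hchar : ringChar F ≠ 2 := fun h => h2 (by
    have := CharP.cast_eq_zero F (ringChar F)
    rw [h] at this
    exact_mod_cast this)
  rw [FiniteField.isSquare_iff hchar (by simpa using hc), ← map_pow]
  obtain ⟨t, ht⟩ : ∃ t, Fintype.card F₀ = 2 * t + 1 :=
    CfsgLib.Classical.Quad.two_ne_zero_iff_odd.1 h20 |>.imp fun t ht => by rwa [Nat.card_eq_fintype_card] at ht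
  have he : Fintype.card F / 2 = (Fintype.card F₀ - 1) * (t + 1) := by
    rw [hcard, ht, show 2 * t + 1 - 1 = 2 * t by omega,
      show (2 * t + 1) ^ 2 = 2 * (2 * t * (t + 1)) + 1 by ring]
    omega
  rw [he, pow_mul, FiniteField.pow_card_sub_one_eq_one c hc, one_pow, map_one]

/-- The square class in the quadratic extension of a square root of a non-square of the base. -/
theorem sqSign_sqrt (h2 : (2 : F) ≠ 0) (hcard : Fintype.card F = Fintype.card F₀ ^ 2) {ν : F₀} (hν : ν ≠ 0)
    (hns : ¬ IsSquare ν) {s : Fˣ} (hs : (s : F) * s = f ν) :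
    (Fintype.card F₀ % 4 = 1 → sqSign s = -1) ∧ (Fintype.card F₀ % 4 = 3 → sqSign s = 1) := by
  have h20 : (2 : F₀) ≠ 0 := fun h => h2 (by rw [← map_ofNat f, h, map_zero])
  have hchar : ringChar F ≠ 2 := fun h => h2 (by
    have := CharP.cast_eq_zero F (ringChar F)
    rw [h] at this
    exact_mod_cast this)
  have hchar₀ : ringChar F₀ ≠ 2 := fun h => h20 (by
    have := CharP.cast_eq_zero F₀ (ringChar F₀)
    rw [h] at this
    exact_mod_cast this)
  obtain ⟨t, ht⟩ : ∃ t, Fintype.card F₀ = 2 * t + 1 :=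
    CfsgLib.Classical.Quad.two_ne_zero_iff_odd.1 h20 |>.imp fun t ht => by rwa [Nat.card_eq_fintype_card] at ht
  have hνt : ν ^ t = -1 := by
    rcases FiniteField.pow_dichotomy hchar₀ hν with h | h <;>
      rw [show Fintype.card F₀ / 2 = t by omega] at h
    · exact absurd ((FiniteField.isSquare_iff hchar₀ hν).2 (by rwa [show Fintype.card F₀ / 2 = t by omega])) hns
    · exact h
  have hpow : (s : F) ^ (Fintype.card F / 2) = (-1) ^ (t + 1) := by
    rw [show Fintype.card F / 2 = 2 * (t * (t + 1)) by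
      rw [hcard, ht, show (2 * t + 1) ^ 2 = 2 * (2 * t * (t + 1)) + 1 by ring,
        show 2 * (t * (t + 1)) = 2 * t * (t + 1) by ring]
      omega, pow_mul, _root_.sq, hs, ← map_pow, pow_mul, hνt, map_pow, map_neg, map_one]
  constructor
  · intro h
    obtain ⟨r, rfl⟩ : ∃ r, t = 2 * r := ⟨t / 2, by omega⟩
    rw [CfsgLib.PGOQuot.sqSign_eq_neg_one_iff, FiniteField.isSquare_iff hchar s.ne_zero, hpow,
      (odd_two_mul_add_one r).neg_one_pow]
    exact fun hh => h2 (by linear_combination -hh)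
  · intro h
    obtain ⟨r, rfl⟩ : ∃ r, t = 2 * r + 1 := ⟨t / 2, by omega⟩
    rw [CfsgLib.PGOQuot.sqSign_eq_one_iff, FiniteField.isSquare_iff hchar s.ne_zero, hpow,
      show 2 * r + 1 + 1 = 2 * (r + 1) by ring, pow_mul, neg_one_sq, one_pow]

include h ha hb in
/-- Proper isometries over the fixed field have trivial spinor norm in the extension. -/
theorem theta_baseIso (h2 : (2 : F) ≠ 0) (hcard : Fintype.card F = Fintype.card F₀ ^ 2) (hab : Aniso a₀ b₀)
    {o : ↥(isometryGroup F₀ ⇑(minusForm k F₀ a₀ b₀))} (ho : detHom o = 1) :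
    theta (Q := plusForm (k + 1) F) 1 (baseIso f h ha hb o) = 1 := by
  have h20 : (2 : F₀) ≠ 0 := fun h => h2 (by rw [← map_ofNat f, h, map_zero])
  have hnd := CfsgLib.Orth.ndPolar_iff.mp (CfsgLib.MinusField.ndMinus (m := k) hab)
  let φ : ℤˣ →* F₀ˣ := Units.map (Int.castRingHom F₀).toMonoidHom
  have key : φ.comp ((theta (Q := plusForm (k + 1) F) (1 : F)).comp (baseIso f h ha hb)) = detHom := by
    refine CfsgLib.OrthSpinor.hom_ext h20 hnd fun v hv => ?_
    obtain ⟨hv', hv'e, hval⟩ := baseIso_reflection f h ha hb hv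
    rw [MonoidHom.comp_apply, MonoidHom.comp_apply, hv'e, CfsgLib.OrthSpinor.detHom_reflection,
      CfsgLib.OrthSpinor.theta_reflection_of_square h2 one_ne_zero hv'
        (by rw [one_mul, hval]; exact isSquare_base f h2 hcard hv)]
    exact Units.ext (by simp [φ])
  have h1 := DFunLike.congr_fun key o
  rw [MonoidHom.comp_apply, MonoidHom.comp_apply, ho] at h1
  rcases Int.units_eq_one_or (theta (Q := plusForm (k + 1) F) 1 (baseIso f h ha hb o)) with h3 | h3
  · exact h3
  · exfalso
    rw [h3] at h1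
    have h4 : (-1 : F₀) = 1 := by simpa [φ] using congrArg Units.val h1
    exact h20 (by linear_combination -h4)

end CfsgLib.GraphFieldPlus
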